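import Cfsg.Agent.Fisch.F23.W0

set_option autoImplicit false
set_option maxRecDepth 1000000
set_option maxHeartbeats 0
set_option Elab.async false

namespace CF.Fisch.W

open CF.Comp CF.Fisch Subgroup Cfsg
open scoped Pointwise

noncomputable def N : List Net := F23.W0.l_N
noncomputable def TT : BT (BT Nat) := F23.W0.l_TT
noncomputable def sb : List Nat := [(nat_lit 352), (nat_lit 0), (nat_lit 1), (nat_lit 2), (nat_lit 3), (nat_lit 7), (nat_lit 4), (nat_lit 11)]
noncomputable def eq0 : Sm := eqT TT (nat_lit 18) (nat_lit 10) (nat_lit 1023) (nat_lit 12) (nat_lit 4095) sb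
theorem tabs : Tabs N 3240 10 12 TT 18 := F23.W0.l_tabs

abbrev K8 : Type := POmega (ZMod 3) (quadFormPlus 4 (ZMod 3))

/-- the group `PΩ₈⁺(3) S₃` on its transpositions -/
structure MW {G Ω : Type*} [Group G] [MulAction G Ω] (E : Dom Ω 3240) (f : ℕ → G) : Prop
    extends Mini N sb 29713078886400 E f where
  fs : Nonempty (generalizedFittingSubgroup G ≃* K8)

theorem model : ∃ (G : Type) (_ : Group G) (Ω : Type) (_ : MulAction G Ω) (E : Dom Ω 3240) (f : ℕ → G), MW E f := by
  obtain ⟨_, M⟩ := F23.model
  exact ⟨_, _, _, _, _, _, (by decide +kernel : lmap Lvl.b F23.W0.l_cg = sb) ▸ F23.W0.mini M, F23.W0.fs M⟩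

noncomputable def us : List (List Nat) := [[(nat_lit 1), (nat_lit 3)],
  [(nat_lit 1), (nat_lit 5)],
  [(nat_lit 1), (nat_lit 7)],
  [(nat_lit 1), (nat_lit 9)],
  [(nat_lit 1), (nat_lit 11)],
  [(nat_lit 1), (nat_lit 13)],
  [(nat_lit 1), (nat_lit 15)]]
noncomputable def ids : List (List Nat) := [[(nat_lit 1)],
  [(nat_lit 3)],
  [(nat_lit 5)],
  [(nat_lit 7)],
  [(nat_lit 9)],
  [(nat_lit 11)],
  [(nat_lit 13)],
  [(nat_lit 15)],
  [(nat_lit 17)]]
noncomputable def b_0 : Nat := (nat_lit 0xffffffffffffffffffffffffffffffffffffffffffffffffffffffffffffffffffffffffffffffffffffffffffffffffffffffffffffffffffffffffffffffffffffffffffffffffffffffffffffffffffffffffffffffffffffffffffffffffffffffffffffffffffffffffffffffffffffffffffffffffffffffffffffffffffffffffffffff)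
noncomputable def b_1 : Nat := (nat_lit 0xfc000000003fffffffffffffffffffffffffff80000000000000000000000000000000000000000000000000ffffffffffffffffffffffffffffffffffffffffffffffffffffffffffffff0000000000000000000000000000000000000000000000000000000000000000001fffffffffffffffffffffffffffffffffffffffffffffffffffffffffffffffffffffffffffffffe0000000000000000000000000000000000000000000000000000000000000000000000000000000000000000001fffffffffffffffffffffffffffffffffffffffffffffffffffffffffffffffffffffffffff8000000000000000000000000000000000000000000003ffffffffffffffffffffe00000001fe000000000000000000000000000000000000000000000000000000000000000000000000000000000000000000000000000000000000000000000000000000000000000000000000000000000000000000000000000000000000000000000000000000000000000000000000000000000000000000000000000000000000000000000000000000)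
noncomputable def b_2 : Nat := (nat_lit 0x3ffffffffc0000000000000000000000000007fffffffffffffffffffffffffffffffffffffffffffffffff00000000000000000000000000000000000000000000000000000000000000ffffffffffffffffffffffffffffffffffffffffffffffffffffffffffffffffffe00000000000000000000000000000000000000000000000000000000000000000000000000000001ffffffffffffffffffffffffffffffffffffffffffffffffffffffffffffffffffffffffffffffffffffffffffe0000000000000000000000000000000000000000000000000000000000000000000000000007ffffffffffffffffffffffffffffffffffffffffffffc000000000000000000001fffffffe01000000000000000000000000000000000000000000000000000000000000000000000000000000000000000000000000000000000000000000000000000000000000000000000000000000000000000000000000000000000000000000000000000000000000000000000000000000000000000000000000000000000000000000000000000000)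
noncomputable def b_s : List Nat := [b_0, b_1, b_2]
noncomputable def b_r : List Nat := [(nat_lit 0), (nat_lit 1081), (nat_lit 1080)]
noncomputable def u_nu : Net := Net.nil
noncomputable def y2 : List Nat := [(nat_lit 1), (nat_lit 5), (nat_lit 1), (nat_lit 3), (nat_lit 1), (nat_lit 11), (nat_lit 1), (nat_lit 13), (nat_lit 7), (nat_lit 5), (nat_lit 1), (nat_lit 5), (nat_lit 1), (nat_lit 3), (nat_lit 1), (nat_lit 9), (nat_lit 1), (nat_lit 3), (nat_lit 7), (nat_lit 15), (nat_lit 1), (nat_lit 11), (nat_lit 5), (nat_lit 13), (nat_lit 1), (nat_lit 7), (nat_lit 1), (nat_lit 15), (nat_lit 1), (nat_lit 3), (nat_lit 1), (nat_lit 11), (nat_lit 5), (nat_lit 11), (nat_lit 1), (nat_lit 15), (nat_lit 1), (nat_lit 7), (nat_lit 1), (nat_lit 3), (nat_lit 1), (nat_lit 9), (nat_lit 1), (nat_lit 3), (nat_lit 1), (nat_lit 13), (nat_lit 1), (nat_lit 9), (nat_lit 1), (nat_lit 11), (nat_lit 1), (nat_lit 5), (nat_lit 1), (nat_lit 7), (nat_lit 1), (nat_lit 7), (nat_lit 1), (nat_lit 9), (nat_lit 7), (nat_lit 11), (nat_lit 1), (nat_lit 9), (nat_lit 1), (nat_lit 15), (nat_lit 1), (nat_lit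 3), (nat_lit 7), (nat_lit 1), (nat_lit 7), (nat_lit 1), (nat_lit 5), (nat_lit 11), (nat_lit 1), (nat_lit 9), (nat_lit 1), (nat_lit 13), (nat_lit 1), (nat_lit 11)]
noncomputable def tw : List Nat := [(nat_lit 1), (nat_lit 7), (nat_lit 1), (nat_lit 15), (nat_lit 1), (nat_lit 11), (nat_lit 5), (nat_lit 13), (nat_lit 1), (nat_lit 7), (nat_lit 1), (nat_lit 15), (nat_lit 1), (nat_lit 3), (nat_lit 1), (nat_lit 11), (nat_lit 1), (nat_lit 3), (nat_lit 7), (nat_lit 9), (nat_lit 1), (nat_lit 15), (nat_lit 7), (nat_lit 9), (nat_lit 7), (nat_lit 3), (nat_lit 1), (nat_lit 5), (nat_lit 7), (nat_lit 3), (nat_lit 1), (nat_lit 7), (nat_lit 1), (nat_lit 11), (nat_lit 1), (nat_lit 9), (nat_lit 1), (nat_lit 5), (nat_lit 1), (nat_lit 3), (nat_lit 7), (nat_lit 9), (nat_lit 1), (nat_lit 15), (nat_lit 7), (nat_lit 13), (nat_lit 1), (nat_lit 17)]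
noncomputable def rs : List (List Nat) := [[(nat_lit 4), (nat_lit 11), (nat_lit 5), (nat_lit 13), (nat_lit 1), (nat_lit 9), (nat_lit 4), (nat_lit 11), (nat_lit 5), (nat_lit 13), (nat_lit 1), (nat_lit 9), (nat_lit 11), (nat_lit 7), (nat_lit 6), (nat_lit 1), (nat_lit 3), (nat_lit 13), (nat_lit 1), (nat_lit 13), (nat_lit 4), (nat_lit 1), (nat_lit 5), (nat_lit 7), (nat_lit 11), (nat_lit 9), (nat_lit 1), (nat_lit 13), (nat_lit 6), (nat_lit 11), (nat_lit 3), (nat_lit 9), (nat_lit 1), (nat_lit 13), (nat_lit 6), (nat_lit 11)],
  [(nat_lit 13), (nat_lit 9), (nat_lit 1), (nat_lit 5), (nat_lit 7), (nat_lit 6), (nat_lit 7), (nat_lit 9), (nat_lit 13), (nat_lit 3), (nat_lit 5), (nat_lit 1), (nat_lit 5), (nat_lit 3), (nat_lit 7), (nat_lit 9), (nat_lit 5), (nat_lit 4), (nat_lit 7), (nat_lit 9), (nat_lit 3), (nat_lit 5), (nat_lit 1), (nat_lit 6), (nat_lit 4), (nat_lit 13), (nat_lit 9), (nat_lit 5), (nat_lit 7), (nat_lit 6), (nat_lit 1), (nat_lit 9), (nat_lit 13)],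
  [(nat_lit 1), (nat_lit 13), (nat_lit 7), (nat_lit 9), (nat_lit 5), (nat_lit 7), (nat_lit 9), (nat_lit 1), (nat_lit 7), (nat_lit 1), (nat_lit 6), (nat_lit 13), (nat_lit 9), (nat_lit 6), (nat_lit 1), (nat_lit 6), (nat_lit 4), (nat_lit 13), (nat_lit 9), (nat_lit 13), (nat_lit 9), (nat_lit 1), (nat_lit 5), (nat_lit 7), (nat_lit 6), (nat_lit 9), (nat_lit 7), (nat_lit 6), (nat_lit 9), (nat_lit 7), (nat_lit 13), (nat_lit 1), (nat_lit 6)],
  [(nat_lit 1), (nat_lit 13), (nat_lit 7), (nat_lit 9), (nat_lit 5), (nat_lit 7), (nat_lit 4), (nat_lit 1), (nat_lit 7), (nat_lit 1), (nat_lit 6), (nat_lit 13), (nat_lit 9), (nat_lit 6), (nat_lit 1), (nat_lit 6), (nat_lit 4), (nat_lit 13), (nat_lit 9), (nat_lit 13), (nat_lit 9), (nat_lit 1), (nat_lit 5), (nat_lit 7), (nat_lit 6), (nat_lit 3), (nat_lit 7), (nat_lit 6), (nat_lit 9), (nat_lit 7), (nat_lit 13), (nat_lit 1), (nat_lit 6)],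
  [(nat_lit 5), (nat_lit 7), (nat_lit 6), (nat_lit 1), (nat_lit 9), (nat_lit 13), (nat_lit 6), (nat_lit 1), (nat_lit 6), (nat_lit 4), (nat_lit 13), (nat_lit 9), (nat_lit 7), (nat_lit 6), (nat_lit 9), (nat_lit 7), (nat_lit 13), (nat_lit 1), (nat_lit 9), (nat_lit 1), (nat_lit 13), (nat_lit 7), (nat_lit 9), (nat_lit 5), (nat_lit 7), (nat_lit 9), (nat_lit 13), (nat_lit 3), (nat_lit 5), (nat_lit 1), (nat_lit 5), (nat_lit 13), (nat_lit 9), (nat_lit 1), (nat_lit 5), (nat_lit 7), (nat_lit 6)],
  [(nat_lit 3), (nat_lit 7), (nat_lit 9), (nat_lit 5), (nat_lit 4), (nat_lit 11), (nat_lit 9), (nat_lit 1), (nat_lit 13), (nat_lit 6), (nat_lit 11), (nat_lit 3), (nat_lit 11), (nat_lit 7), (nat_lit 9), (nat_lit 3), (nat_lit 5), (nat_lit 5), (nat_lit 9), (nat_lit 6), (nat_lit 6), (nat_lit 4), (nat_lit 9), (nat_lit 7), (nat_lit 11), (nat_lit 4), (nat_lit 11), (nat_lit 5), (nat_lit 13), (nat_lit 1), (nat_lit 9), (nat_lit 11), (nat_lit 3), (nat_lit 6), (nat_lit 9), (nat_lit 7), (nat_lit 4)],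
  [(nat_lit 3), (nat_lit 7), (nat_lit 6), (nat_lit 9), (nat_lit 7), (nat_lit 13), (nat_lit 1), (nat_lit 13), (nat_lit 6), (nat_lit 1), (nat_lit 5), (nat_lit 9), (nat_lit 7), (nat_lit 6), (nat_lit 1), (nat_lit 7), (nat_lit 9), (nat_lit 4), (nat_lit 4), (nat_lit 7), (nat_lit 6), (nat_lit 9), (nat_lit 7), (nat_lit 13), (nat_lit 1), (nat_lit 13), (nat_lit 6), (nat_lit 1), (nat_lit 5), (nat_lit 9), (nat_lit 7), (nat_lit 6), (nat_lit 1), (nat_lit 7), (nat_lit 9), (nat_lit 4), (nat_lit 4)]]
noncomputable def yw : List Nat := [(nat_lit 11), (nat_lit 6), (nat_lit 7), (nat_lit 1), (nat_lit 9), (nat_lit 4), (nat_lit 11), (nat_lit 6), (nat_lit 7), (nat_lit 1), (nat_lit 9), (nat_lit 4)]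
noncomputable def r_nu : Net := (Net.cons (nat_lit 1) (nat_lit 0x111400555004415000514050454000414001000105411004001115150541114504141411444440000100540500044040100501401411040004054400045014051040401050000501004401101100441000000000000010000000000141505040045451015454444540500050040010151150505004404000000104005000440014000000000000) (Net.cons (nat_lit 2) (nat_lit 0x10012023302120112110222221211032130010301322132010010023000100013002320110120012100132102001100000002103010000000110010013000010010001001000021001201031020012000020022000020000000000200333301201132002212110100000212022220310220202113321031122100000000000001001000120000) (Net.cons (nat_lit 4) (nat_lit 0x70300010f0200040b0d06080a0b040501010e0f02040000020a07050200040502080200000404040002010e0002080105000a020a06050000090b0a030500040b08000806020001020404010004000100080002080000000000000a08080a0f010804040102040500000d0009000308010e0c080d02040c000000010000000000000000000800) (Net.cons (nat_lit 8) (nat_lit 0x60007000aa008a00f500440076002100ab002100a00012000e00ac008400b000c00027000f00c0002b001000930024005c001e00300000009c000300090090006c00600002005600400012000100010040000200000001000000b0009e006400f10025001900750080002900cb00b60046001f000800380004004000c00040000000000000)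 (Net.cons (nat_lit 16) (nat_lit 0xa2000034720000200900000ff90000a0800000524e0000ae8100000304000044ae00000832000022060000ec030000058900001c2a00008002000063000000124a00001a4000000020000025420000800100000000000000000000fc03000083210000620d000098f60000cf680000d008000067800000821c000040000000002800000000) (Net.cons (nat_lit 32) (nat_lit 0x26b96a00000000f1ee7dc800000000b4375abb00000000aa022406000000009090200200000000ab44e1040000000010a03c000000000004550702000000000200254000000000c8110100000000000000000000000000d8800022000000000059a3f40000000062982b3b000000007147c07000000000800010080000000000000000) (Net.cons (nat_lit 64) (nat_lit 0x3e08420cc0040c50000000000000000412980002b942406000000000000000004011c00008a20000000000000000000907800504208400e00000000000000000406b821c84142000000000000000000020400260022b10000000000000000002218841600fe566e00000000000000000000000000000000) (Net.cons (nat_lit 128) (nat_lit 0x4a00029029010100000630aad295683600000000000000000000000000000000812af8201234000402a8002004020000000000000000000000000000000000001a0400040041a1000006b94ae9494e400000000000000000000000000000000000000000000000000000204200400000)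 (Net.cons (nat_lit 256) (nat_lit 0x800804000000000402000020000000001102ff4000000000000000205000000400000000000000000000000000000000000000000000000000000000000000000000000000000000000000000000000000000000000000000006b840e8414600) (Net.cons (nat_lit 512) (nat_lit 0xf84332153a780e) (Net.cons (nat_lit 1024) (nat_lit 0xfefb72fd7b7e0e) (Net.cons (nat_lit 512) (nat_lit 0x840b8e60923c1c450be50030069000221f2bff40808001000000000a0000080000000000000000000000000000000000000000000000000000f84332553a380e) (Net.cons (nat_lit 256) (nat_lit 0xc82804000b010104000266a2100328111102fff430340200000010209004400500000000000000000000000000000000000000000000000000000000000000001a0400040041a1000000214a414900400000000000000080000fba61e873f7bc) (Net.cons (nat_lit 128) (nat_lit 0x4b8002982d0101848406b0eafa95ec3700000000000000000000000000000000852ffc2012fc300532a8002004020201000000000000000000000000000000001a0404050041a1020006b94ae9494e4000000000000000000000000000000000e1a8863a99fe567dd390304610000002) (Net.cons (nat_lit 64) (nat_lit 0x21f0a420cc0142c50000000000000000412984112b962406000000000000000084011d00228a24060000000000000000907a08514208450e00000000000000000616b921c94142000000000000000000c28400262462b1800000000000000000e399847634fe5e0e0000000000000000c184000050400080)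 (Net.cons (nat_lit 32) (nat_lit 0x26b96a00000000f7ee7dc800000000b4375abb00000000aa022406000000009090200200000000ab44e9040000000010a03c000000000084550702000000000040254000000000aa114100000000000400000000000000d8800022000000000059b3f40000000062986b9b0000000071e5c05000000000808010280000000000000000) (Net.cons (nat_lit 16) (nat_lit 0xa20000fd720000784900000ff90000a0800000524e0000be8100000306000064ae000008320000a2060000ec03000005d900001c2a0000800a000023000000124a00005b400000c82000007d420000800100000000000000000000fc0b000083710000631d000098f60000cf2a0000d1480000678000008a1c000040400000002800000010) (Net.cons (nat_lit 8) (nat_lit 0x60007000aa008a00fd00440076002100ab002100a00052000e00ac009400f000c00027004f00c0002b001000930024005c001e00300000009c0003000900d8006c0060002200560040001a0001000100c0000a00000001000000b0009e006400f10065001d00750080002900cb00b600460037008800b80004004000c00040000000000000) (Net.cons (nat_lit 4) (nat_lit 0x70300090f0200040b0d06080a0b040d01030e0f020c0400020a07050202040502080200000406040003010e0002080105000a030a06050c00090b0a030502040b08000806020001020c04010004000900080002080008000000000a08080a0f0108040401020c0500000d000900030e010e0c0e0d02040c010001010601000000000000000800)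 (Net.cons (nat_lit 2) (nat_lit 0x10012023302120112110222221211032130010301322132010010023000100013002320110120012100132102001100000002103010000000112010013001010030021001200021021201031020012000020022000020000000000200333301201133002212110100000212022220310220200133321031122100000200000001001020120000) (Net.cons (nat_lit 1) (nat_lit 0x111400555004415000514050454000414001000505411004001115150541114504141411444440000100540500044040100501401411040004054400045014051140401050000501004411101100541000000000001010100000004151505040045451015454444540500050040010151154505004404000000104405000440014000000001000) Net.nil)))))))))))))))))))))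

theorem b_D : blkD 3240 3 b_s b_r = true := by decide +kernel
theorem b_at : allFrom (blkAt N F23.O8.b_N b_s ids 3) 0 9 = true := by decide +kernel
theorem u_cl : lall (closedW N us) b_s = true := by decide +kernel
theorem u_nw : wfAll [u_nu] 3240 = true := by decide +kernel
theorem u_sub : CF.Comp.subOK N F23.O8.u_N u_nu us 1080 11 = true := by decide +kernel
theorem y_eq : eq0 (subst us (subst rs yw)) y2 = true := by decide +kernel
theorem r_nw : wfAll [r_nu] 1080 = true := by decide +kernel
theorem r_sub : CF.Comp.subOK F23.O8.u_N F23.O8.u_N r_nu rs 1080 11 = true := by decide +kernel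
theorem y_com : eq0 (lapp tw (subst us yw)) (lapp (subst us yw) tw) = true := by decide +kernel
theorem y_ne : cnts N 3240 12 b_s (lapp tw (lapp y2 (winv tw))) ≠ cnts N 3240 12 b_s y2 := by decide +kernel

variable {G Ω : Type*} [Group G] [MulAction G Ω] {E : Dom Ω 3240} {f : ℕ → G}

theorem MW.finite (M : MW E f) : Finite G := Nat.finite_of_card_ne_zero (by rw [M.card]; decide)
theorem MW.sm0 (M : MW E f) : IsSm f eq0 := M.sm tabs (by decide) (by decide +kernel)
theorem u_reps (M : MW E f) : Reps (E.sub u_nu u_nw (by decide : 1080 ≤ 3240)) F23.O8.u_N (evs f us) :=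
  M.reps.sub_of_OK u_nw (by decide) (by decide) u_sub

theorem blk (M : MW E f) : Reps (Dom.blk E b_s b_D) F23.O8.b_N (evs f ids) :=
  Reps.blk M.reps b_D F23.O8.b_wf (l := 9) rfl rfl (allFrom_zero.1 b_at)

theorem not_comm : ¬ IsMulCommutative K8 :=
  have := simple_O8
  not_comm_of_card (a := 2) (b := 2476089907200) F23.card_O8 (by decide) (by decide)

theorem card_fs (M : MW E f) : Nat.card (generalizedFittingSubgroup G) = 4952179814400 :=
  (Nat.card_congr M.fs.some.toEquiv).trans F23.card_O8

theorem fs_eq (M : MW E f) : generalizedFittingSubgroup G = clo f us := by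
  have := M.finite
  have := simple_O8
  obtain ⟨φ, h1, -⟩ := Reps.onto (u_reps M) F23.O8.o_eq
  obtain ⟨ψ, h2⟩ := Reps.toPG (blk M) (M.top_evs (by decide +kernel))
  have h4 := ψ.ker.card_mul_index
  rw [index_ker, MonoidHom.range_eq_top.2 h2.surj, card_top, Nat.card_congr (PG.perm F23.O8.b_wf (by decide)
    F23.O8.b_cgok).some.toEquiv, M.card, Nat.card_perm, Nat.card_fin, show Nat.factorial 3 = 6 from rfl] at h4
  have h5 := Nat.card_le_card_of_surjective φ h1
  rw [F23.card_O8] at h5
  have h6 : clo f us = ψ.ker := eq_of_le_of_card_le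
    (fun x hx => h2.eq_one.2 (Reps.blk_fix M.reps b_D rfl u_cl hx)) (by omega)
  have e := MulEquiv.ofBijective φ (h1.bijective_of_nat_card_le (by rw [h6, F23.card_O8]; omega))
  have := e.isSimpleGroup
  exact (eq_of_le_of_card_le ((CF.Sig.comp_le_layer ⟨Normal.isSubnormal (h6 ▸ inferInstance),
    CF.Sig.qs_of_isSimpleGroup fun h => not_comm ⟨⟨fun a b => e.symm.injective (by
      rw [map_mul, map_mul, h.1.1])⟩⟩⟩).trans CF.Sig.layer_le_fstar) (card_fs M ▸ h5)).symm

theorem uniq {A B : Type*} [Group A] [Group B] [Finite A] [Finite B] (e : generalizedFittingSubgroup A ≃* K8)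
    (e' : generalizedFittingSubgroup B ≃* K8) (hA : Nat.card A = 6 * Nat.card K8) (hB : Nat.card B = 6 * Nat.card K8) :
    Nonempty (A ≃* B) := by
  obtain ⟨G, _, Ω, _, E, f, M⟩ := model
  have := M.finite
  have := simple_O8
  have : (clo f us).Normal := fs_eq M ▸ inferInstance
  have a : clo f us ≃* K8 := (MulEquiv.subgroupCongr (fs_eq M)).symm.trans M.fs.some
  have hc := Nat.card_congr a.toEquiv
  obtain ⟨ρ, hρ⟩ := aut_of_reps (reps_gen (u_reps M)) (gen_top us)
    (hc.trans (Nat.card_congr F23.O8.o_eq.some.toEquiv).symm).le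
    ((reps_gen (u_reps M)).sub_of_OK r_nw le_rfl (by decide) r_sub)
  refine s3_ext (τ := MulAut.conjNormal (ev f tw)) (ρ := ρ) (y := ev (gen f us) yw)
    (center_eq_bot_of_equiv a (center_simple not_comm)) (by
      rw [Nat.card_congr (MulAut.congr a).toEquiv, Cfsg.Agent.S0817.result 3 1 le_rfl rfl 4 le_rfl, hc]; rfl)
    (by rw [← map_pow, ← M.sm0.ord (p := 3) (w := tw) (by norm_num) (by decide +kernel), pow_orderOf_eq_one, map_one])
    (Subtype.ext (by rw [MulAut.conjNormal_apply, coe_ev_gen, M.sm0.conj y_com])) (fun h => y_ne ?_)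
    (e.trans a.symm) (e'.trans a.symm) (hc ▸ hA) (hc ▸ hB)
  obtain ⟨c, h⟩ := isConj_iff.1 h
  have h1 := congrArg Subtype.val h
  simp only [hρ, MulAut.conjNormal_apply, coe_ev_gen, coe_mul, coe_inv, M.sm0.eq y_eq] at h1
  rw [← fxL_ev M.reps (by decide) (by decide), ← fxL_ev M.reps (by decide) (by decide), ev_lapp, ev_lapp,
    ev_winv, ← mul_assoc, ← h1, ← map_conj_zpowers]
  exact fxL_conj (fun v hv => M.reps.closedW (lall_iff.1 u_cl v hv) c.2) _

end CF.Fisch.W
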